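import Cfsg.Agent.H439.Der.Reduce
import Cfsg.Agent.SmallSimple.Embed
import Cfsg.Agent.SmallSimple.Simple168
import Cfsg.Agent.SmallSimple.Simple504

/-!
# Tools for the small socles of S3500 (helper35)
-/

set_option autoImplicit false
set_option linter.unusedSectionVars false

namespace Cfsg.Agent.H35.DerSmall

open Subgroup Cfsg.Agent.H439.Der

section

variable {T : Type*} [Group T] [Finite T]

/-- iterated conjugation -/
theorem conj_pow_iter {x g : T} {k : ℕ} (h : g * x * g⁻¹ = x ^ k) (n : ℕ) :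
    g ^ n * x * (g ^ n)⁻¹ = x ^ (k ^ n) := by
  induction n with
  | zero => simp
  | succ n ih =>
    have h1 : g ^ (n + 1) * x * (g ^ (n + 1))⁻¹ = g * (g ^ n * x * (g ^ n)⁻¹) * g⁻¹ := by
      rw [pow_succ']; group
    rw [h1, ih, ← conj_pow, h, ← pow_mul, pow_succ']

theorem mem_normalizer_zpowers {x g : T} {k : ℕ} (h : g * x * g⁻¹ = x ^ k) :
    g ∈ normalizer (zpowers x : Set T) := by
  have h1 : (zpowers x).map (MulAut.conj g).toMonoidHom = zpowers (g * x * g⁻¹) := by
    rw [MonoidHom.map_zpowers]; rfl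
  have h2 : zpowers (g * x * g⁻¹) ≤ zpowers x := by
    rw [h, zpowers_le]; exact pow_mem (mem_zpowers x) k
  have h3 : Nat.card (zpowers (g * x * g⁻¹)) = Nat.card (zpowers x) := by
    rw [← h1]
    exact (Nat.card_congr ((zpowers x).equivMapOfInjective _ (MulAut.conj g).injective).toEquiv).symm
  have h4 : zpowers (g * x * g⁻¹) = zpowers x := Subgroup.eq_of_le_of_card_ge h2 h3.ge
  rw [mem_normalizer_iff_map_conj_eq]
  exact h1.trans h4

/-- an element not conjugate to a power -/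
theorem not_conj_pow {x : T} {p k n : ℕ} (hx : orderOf x = p)
    (hN : Nat.card (normalizer (zpowers x : Set T)) = n) (hk : ¬ k ^ n ≡ 1 [MOD p]) (g : T) :
    g * x * g⁻¹ ≠ x ^ k := by
  intro h
  have h1 := mem_normalizer_zpowers h
  have h2 : g ^ n = 1 := by
    have h3 : (⟨g, h1⟩ : normalizer (zpowers x : Set T)) ^ n = 1 := by rw [← hN]; exact pow_card_eq_one'
    exact congrArg Subtype.val h3
  have h3 := conj_pow_iter h n
  rw [h2, one_mul, inv_one, mul_one] at h3
  apply hk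
  rw [← hx, ← pow_eq_pow_iff_modEq, ← h3, pow_one]

theorem not_mem_of_not_dvd {M : Subgroup T} {x : T} (h : ¬ orderOf x ∣ Nat.card M) (g : T) :
    g * x * g⁻¹ ∉ M := by
  have := not_mem_of_dvd (M := M) h (x := x) dvd_rfl (MulAut.conj g)
  simpa using this

/-- a missing prime with an element not conjugate to a power -/
theorem twoT_of_pow {M : Subgroup T} {x : T} {p k n : ℕ} (hp : p.Prime) (hx : orderOf x = p)
    (hM : ¬ p ∣ Nat.card M) (hkp : ¬ p ∣ k)
    (hN : Nat.card (normalizer (zpowers x : Set T)) = n) (hk : ¬ k ^ n ≡ 1 [MOD p]) : TwoT T M := by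
  have h1 : orderOf (x ^ k) = p := by
    rw [orderOf_pow, hx, Nat.Coprime.gcd_eq_one ((Nat.Prime.coprime_iff_not_dvd hp).2 hkp), Nat.div_one]
  exact ⟨x, x ^ k, not_mem_of_not_dvd (by rwa [hx]), not_mem_of_not_dvd (by rwa [h1]),
    not_conj_pow hx hN hk⟩

/-- two missing elements of different orders -/
theorem twoT_of_ne {M : Subgroup T} {x y : T} (hx : ∀ g : T, g * x * g⁻¹ ∉ M) (hy : ∀ g : T, g * y * g⁻¹ ∉ M)
    (h : orderOf x ≠ orderOf y) : TwoT T M := by
  refine ⟨x, y, hx, hy, fun g hg => h ?_⟩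
  rw [← hg]
  exact (orderOf_injective (MulAut.conj g).toMonoidHom (MulAut.conj g).injective x).symm

theorem twoR_of_ne {R : Subgroup T} {x y : T} (hx : ∀ g : T, g * x * g⁻¹ ∉ R) (hy : ∀ g : T, g * y * g⁻¹ ∉ R)
    (h : orderOf x ≠ orderOf y) : TwoR T R := by
  refine ⟨x, y, hx, hy, fun φ _ g hg => h ?_⟩
  rw [← hg]
  have h1 : orderOf (g * φ x * g⁻¹) = orderOf (φ x) :=
    orderOf_injective (MulAut.conj g).toMonoidHom (MulAut.conj g).injective (φ x)
  rw [h1]
  exact (orderOf_injective φ.toMonoidHom φ.injective x).symm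

theorem exists_orderOf {p : ℕ} (hp : p.Prime) (h : p ∣ Nat.card T) : ∃ x : T, orderOf x = p := by
  have := Fact.mk hp
  exact exists_prime_orderOf_dvd_card' p h

theorem twoR_of_primes {R : Subgroup T} {p q : ℕ} (hp : p.Prime) (hq : q.Prime) (hpq : p ≠ q)
    (hpT : p ∣ Nat.card T) (hqT : q ∣ Nat.card T) (hpR : ¬ p ∣ Nat.card R) (hqR : ¬ q ∣ Nat.card R) :
    TwoR T R := by
  obtain ⟨x, hx⟩ := exists_orderOf hp hpT
  obtain ⟨y, hy⟩ := exists_orderOf hq hqT
  exact twoR_of_ne (not_mem_of_not_dvd (by rwa [hx])) (not_mem_of_not_dvd (by rwa [hy]))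
    (by rw [hx, hy]; exact hpq)

/-- the normaliser of a subgroup of order `p ∥ |T|` -/
theorem card_normalizer_of {p a n : ℕ} (hp : p.Prime) (hT : Nat.card T = p * a) (hpa : ¬ p ∣ a)
    (hs : Nat.card (Sylow p T) = n) {P : Subgroup T} (hP : Nat.card P = p) :
    Nat.card (normalizer (P : Set T)) * n = Nat.card T := by
  have := Fact.mk hp
  have h1 : IsPGroup p P := IsPGroup.of_card (n := 1) (by rw [hP, pow_one])
  have h2 : ¬ p ∣ P.index := by
    intro h
    have h3 := P.card_mul_index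
    rw [hP, hT] at h3
    rw [Nat.eq_of_mul_eq_mul_left hp.pos h3] at h
    exact hpa h
  have h3 := (h1.toSylow h2).card_eq_index_normalizer
  rw [hs] at h3
  change n = (normalizer (P : Set T)).index at h3
  rw [h3]
  exact Subgroup.card_mul_index _

/-- the number of Sylow subgroups of a subgroup `M`, in the form needed below: if `n_p(M) = 1` is forced then `M` normalises
a subgroup of order `p` -/
theorem card_dvd_normalizer {M : Subgroup T} {p a : ℕ} (hp : p.Prime) (hM : Nat.card M = p * a) (hpa : ¬ p ∣ a)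
    (h1 : ∀ n, n ∣ a → n ≡ 1 [MOD p] → n = 1) :
    ∃ P : Subgroup T, Nat.card P = p ∧ Nat.card M ∣ Nat.card (normalizer (P : Set T)) := by
  have := Fact.mk hp
  obtain ⟨x, hx⟩ := exists_orderOf (T := M) hp (by rw [hM]; exact dvd_mul_right _ _)
  set P : Subgroup M := zpowers x with hPdef
  have hP : Nat.card P = p := by rw [hPdef, Nat.card_zpowers, hx]
  have h2 : IsPGroup p P := IsPGroup.of_card (n := 1) (by rw [hP, pow_one])
  have h3 : P.index = a := by
    have h4 := P.card_mul_index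
    rw [hP, hM] at h4
    exact Nat.eq_of_mul_eq_mul_left hp.pos h4
  have h4 : ¬ p ∣ P.index := by rwa [h3]
  have h5 : Nat.card (Sylow p M) = 1 := by
    apply h1
    · have := (h2.toSylow h4).card_dvd_index
      rwa [show ((h2.toSylow h4 : Sylow p M) : Subgroup M) = P from rfl, h3] at this
    · exact card_sylow_modEq_one p M
  have h6 := (h2.toSylow h4).card_eq_index_normalizer
  rw [h5] at h6
  change 1 = (normalizer (P : Set M)).index at h6
  rw [eq_comm, index_eq_one] at h6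
  refine ⟨P.map M.subtype, ?_, ?_⟩
  · rw [← hP]
    exact (Nat.card_congr (P.equivMapOfInjective _ M.subtype_injective).toEquiv).symm
  · apply card_dvd_of_le
    intro m hm
    have h7 : (⟨m, hm⟩ : M) ∈ normalizer (P : Set M) := by rw [h6]; exact mem_top _
    rw [mem_normalizer_iff] at h7 ⊢
    intro t
    constructor
    · rintro ⟨y, hy, rfl⟩
      exact ⟨⟨m, hm⟩ * y * ⟨m, hm⟩⁻¹, (h7 y).1 hy, rfl⟩
    · rintro ⟨y, hy, hyt⟩
      have h8 : t = (((⟨m, hm⟩ : M)⁻¹ * y * ⟨m, hm⟩ : M) : T) := by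
        have : (y : T) = m * t * m⁻¹ := hyt
        simp only [coe_mul, coe_inv, this]
        group
      refine ⟨(⟨m, hm⟩ : M)⁻¹ * y * ⟨m, hm⟩, ?_, h8.symm⟩
      apply (h7 _).2
      have h9 : (⟨m, hm⟩ : M) * (⟨m, hm⟩⁻¹ * y * ⟨m, hm⟩) * ⟨m, hm⟩⁻¹ = y := by group
      rw [h9]
      exact hy

/-- subgroups of order `p ∥ |R|` of `R` are conjugate in `R` -/
theorem exists_conj_of_card {R P Q : Subgroup T} {p : ℕ} (hp : p.Prime) (hP : P ≤ R) (hQ : Q ≤ R)
    (cP : Nat.card P = p) (cQ : Nat.card Q = p) (hR : ¬ p * p ∣ Nat.card R) :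
    ∃ r ∈ R, Q.map (MulAut.conj r).toMonoidHom = P := by
  have := Fact.mk hp
  have key : ∀ S : Subgroup T, S ≤ R → Nat.card S = p → ∃ S' : Sylow p R, (S' : Subgroup R) = S.subgroupOf R := by
    intro S hS cS
    have c : Nat.card (S.subgroupOf R) = p := by
      rw [Nat.card_congr (subgroupOfEquivOfLe hS).toEquiv, cS]
    have h1 : IsPGroup p (S.subgroupOf R) := IsPGroup.of_card (n := 1) (by rw [c, pow_one])
    have h2 : ¬ p ∣ (S.subgroupOf R).index := by
      intro h
      apply hR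
      have h3 := (S.subgroupOf R).card_mul_index
      rw [c] at h3
      rw [← h3]
      exact Nat.mul_dvd_mul_left p h
    exact ⟨h1.toSylow h2, rfl⟩
  obtain ⟨P', hP'⟩ := key P hP cP
  obtain ⟨Q', hQ'⟩ := key Q hQ cQ
  obtain ⟨r, hr⟩ := MulAction.exists_smul_eq R Q' P'
  refine ⟨r, r.2, ?_⟩
  have h1 : (Q' : Subgroup R).map (MulAut.conj r).toMonoidHom = (P' : Subgroup R) := by
    rw [← hr]; rfl
  rw [hP', hQ'] at h1
  have h2 := congrArg (Subgroup.map R.subtype) h1
  rw [Subgroup.map_map, subgroupOf_map_subtype, inf_eq_left.2 hP] at h2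
  have h3 : R.subtype.comp (MulAut.conj r).toMonoidHom = (MulAut.conj (r : T)).toMonoidHom.comp R.subtype := by
    ext x; rfl
  rw [h3, ← Subgroup.map_map, subgroupOf_map_subtype, inf_eq_left.2 hQ] at h2
  exact h2

/-- **a second fixed coset** from a subgroup `P` of `R` with `|N_T(P) : N_R(P)| = 2` -/
theorem outBad_of {R P : Subgroup T} {p : ℕ} (hp : p.Prime) (hP : P ≤ R) (cP : Nat.card P = p)
    (hR : ¬ p * p ∣ Nat.card R) (hidx : R.relIndex (normalizer (P : Set T)) = 2) : OutBad T R := by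
  intro φ _ hφ
  have h1 : P.map φ.toMonoidHom ≤ R := by rw [← hφ]; exact map_mono hP
  have h2 : Nat.card (P.map φ.toMonoidHom) = p := by
    rw [← cP]
    exact (Nat.card_congr (P.equivMapOfInjective _ φ.injective).toEquiv).symm
  obtain ⟨r, hr, h3⟩ := exists_conj_of_card hp hP h1 cP h2 hR
  -- `ψ = conj r ∘ φ`
  set ψ : T ≃* T := φ.trans (MulAut.conj r) with hψ
  have hψa : ∀ t, ψ t = r * φ t * r⁻¹ := fun t => rfl
  have h4 : P.map ψ.toMonoidHom = P := by
    have : ψ.toMonoidHom = (MulAut.conj r).toMonoidHom.comp φ.toMonoidHom := rfl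
    rw [this, ← Subgroup.map_map, h3]
  have hPm : ∀ x, x ∈ P ↔ ψ x ∈ P := by
    intro x
    constructor
    · intro hx; rw [← h4]; exact ⟨x, hx, rfl⟩
    · intro hx
      rw [← h4] at hx
      obtain ⟨y, hy, hyx⟩ := hx
      rwa [← ψ.injective hyx]
  have hRm : ∀ x, x ∈ R ↔ ψ x ∈ R := by
    intro x
    have h5 : ψ x ∈ R ↔ φ x ∈ R := by
      rw [hψa]
      constructor
      · intro h
        have := mul_mem (mul_mem (inv_mem hr) h) hr
        have e : r⁻¹ * (r * φ x * r⁻¹) * r = φ x := by group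
        rwa [e] at this
      · intro h; exact mul_mem (mul_mem hr h) (inv_mem hr)
    rw [h5]
    constructor
    · intro hx; rw [← hφ]; exact ⟨x, hx, rfl⟩
    · intro hx
      rw [← hφ] at hx
      obtain ⟨y, hy, hyx⟩ := hx
      rwa [← φ.injective hyx]
  have hNm : ∀ x, x ∈ normalizer (P : Set T) → ψ x ∈ normalizer (P : Set T) := by
    intro x hx
    rw [mem_normalizer_iff] at hx ⊢
    intro y
    obtain ⟨z, rfl⟩ := ψ.surjective y
    rw [← map_mul, ← map_inv, ← map_mul, ← hPm, ← hPm]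
    exact hx z
  -- an element of the normaliser outside `R`
  obtain ⟨t, ht, htR⟩ : ∃ t ∈ normalizer (P : Set T), t ∉ R := by
    by_contra hcon
    push Not at hcon
    have : R.relIndex (normalizer (P : Set T)) = 1 := relIndex_eq_one.2 hcon
    omega
  refine ⟨r, hr, t, htR, ?_⟩
  rw [← hψa]
  have h5 : ψ t ∉ R := fun h => htR ((hRm t).2 h)
  have h6 := Subgroup.mul_mem_iff_of_index_two (H := R.subgroupOf (normalizer (P : Set T))) hidx
    (a := (⟨t, ht⟩ : normalizer (P : Set T))⁻¹) (b := ⟨ψ t, hNm t ht⟩)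
  rw [mem_subgroupOf, mem_subgroupOf, mem_subgroupOf] at h6
  have h7 : t⁻¹ ∉ R := fun h => htR (by simpa using inv_mem h)
  exact h6.2 (iff_of_false h7 h5)

end

end Cfsg.Agent.H35.DerSmall
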