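import Cfsg.Agent.H35.DerSmall.Base
import Cfsg.Agent.H163.PG.Ord
import Cfsg.Agent.ClassicalGeometry.PSLTorus
import Cfsg.Agent.SmallSimple.S1000.PSLFacts

/-!
# S3500: the socle `PSL₂(8)` (helper35)
-/

set_option autoImplicit false
set_option linter.unusedSectionVars false

namespace Cfsg.Agent.H35.DerSmall

open Subgroup Cfsg.Agent.H439.Der

section

variable {T : Type*} [Group T] [Finite T]

/-- a simple group with an element of prime power order `p ^ (k+1)` has no subgroup of smaller index -/
theorem pow_le_index [IsSimpleGroup T] {p k : ℕ} (hp : p.Prime) {x : T} (hx : orderOf x = p ^ (k + 1))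
    {M : Subgroup T} (hM : M ≠ ⊤) : p ^ (k + 1) ≤ M.index := by
  by_contra hlt
  push Not at hlt
  have hker : ∀ y : T, (∀ b : T ⧸ M, y • b = b) → y = 1 := by
    intro y hy
    have h1 : y ∈ (MulAction.toPermHom T (T ⧸ M)).ker := by
      rw [MonoidHom.mem_ker]
      ext b
      exact hy b
    rcases Subgroup.Normal.eq_bot_or_eq_top (H := (MulAction.toPermHom T (T ⧸ M)).ker) inferInstance with h | h
    · rw [h] at h1; exact h1
    · exfalso
      apply hM
      rw [← Subgroup.normalCore_eq_ker] at h
      exact top_le_iff.1 (h ▸ Subgroup.normalCore_le M)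
  have h1 : ∀ b : T ⧸ M, x ^ p ^ k • b = b := by
    intro b
    rw [MulAction.pow_smul_eq_iff_minimalPeriod_dvd]
    have h2 : Function.minimalPeriod (x • ·) b ∣ p ^ (k + 1) := by
      rw [← MulAction.pow_smul_eq_iff_minimalPeriod_dvd, ← hx, pow_orderOf_eq_one, one_smul]
    obtain ⟨j, hj, hjk⟩ := (Nat.dvd_prime_pow hp).1 h2
    rw [hjk]
    rcases Nat.lt_or_ge j (k + 1) with h3 | h3
    · exact pow_dvd_pow p (by omega)
    · exfalso
      have h4 : j = k + 1 := by omega
      subst h4
      have h6 := Nat.card_le_card_of_injective (β := T ⧸ M)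
        (fun z => ((MulAction.orbitZPowersEquiv x b).symm z).1)
        (Subtype.val_injective.comp (MulAction.orbitZPowersEquiv x b).symm.injective)
      rw [Nat.card_zmod, hjk] at h6
      exact absurd hlt (not_lt.2 h6)
  have h2 := hker _ h1
  have h3 := orderOf_dvd_of_pow_eq_one h2
  rw [hx] at h3
  have h4 := Nat.le_of_dvd (pow_pos hp.pos _) h3
  have h5 : p ^ k < p ^ (k + 1) := Nat.pow_lt_pow_right hp.one_lt (by omega)
  omega

/-- **`PSL₂(8)`**, abstract form -/
theorem rowEight_of [hs : IsSimpleGroup T] (hc : Nat.card T = 504) {z : T} (hz : orderOf z = 9)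
    (hout : Nat.card (Cfsg.Out T) ∣ 3) : RowEight T := by
  have p7 : Nat.Prime 7 := by norm_num
  have p3 : Nat.Prime 3 := Nat.prime_three
  have f7 : Fact (Nat.Prime 7) := ⟨p7⟩
  have hidx : ∀ M : Subgroup T, M ≠ ⊤ → 9 ≤ M.index := fun M hM => by
    have := pow_le_index (k := 1) p3 (x := z) (by rw [hz]; norm_num) hM
    simpa using this
  have hn7 : ∀ P : Subgroup T, Nat.card P = 7 → Nat.card (normalizer (P : Set T)) = 14 := by
    intro P hP
    have := card_normalizer_of (n := 36) p7 (a := 72) (by rw [hc]) (by norm_num)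
      (SmallSimple.Simple504.card_sylow_seven hc) hP
    omega
  have hno : ∀ M : Subgroup T, Nat.card M ≠ 21 ∧ Nat.card M ≠ 42 := by
    intro M
    constructor
    · intro h
      obtain ⟨P, hP, hd⟩ := card_dvd_normalizer (M := M) p7 (a := 3) h (by norm_num) (by
        intro n hn hm
        have := Nat.le_of_dvd (by norm_num) hn
        unfold Nat.ModEq at hm
        interval_cases n <;> omega)
      rw [hn7 P hP, h] at hd
      omega
    · intro h
      obtain ⟨P, hP, hd⟩ := card_dvd_normalizer (M := M) p7 (a := 6) h (by norm_num) (by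
        intro n hn hm
        have := Nat.le_of_dvd (by norm_num) hn
        unfold Nat.ModEq at hm
        interval_cases n <;> omega)
      rw [hn7 P hP, h] at hd
      omega
  refine ⟨hc, fun M hM => ?_, hout, fun R hR hm => ?_⟩
  · by_cases h7 : 7 ∣ Nat.card M
    · -- `3 ∤ |M|`
      have h3 : ¬ 3 ∣ Nat.card M := by
        intro h3
        have h1 := M.card_mul_index
        rw [hc] at h1
        have h2 := hidx M hM.1
        have h21 : 21 ∣ Nat.card M := by
          have := Nat.Coprime.mul_dvd_of_dvd_of_dvd (by norm_num : Nat.Coprime 3 7) h3 h7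
          simpa using this
        obtain ⟨c, hc'⟩ := h21
        have h4 := hno M
        have h5 : Nat.card M ≤ 56 := by
          by_contra h
          push Not at h
          nlinarith
        have h6 : 0 < c := by
          rcases Nat.eq_zero_or_pos c with h | h
          · rw [h, mul_zero] at hc'
            exact absurd hc' Nat.card_pos.ne'
          · exact h
        have h7 : c = 1 ∨ c = 2 := by omega
        rcases h7 with rfl | rfl
        · exact h4.1 hc'
        · exact h4.2 hc'
      obtain ⟨y, hy⟩ := exists_orderOf (T := T) p3 (by rw [hc]; norm_num)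
      refine twoT_of_ne (x := y) (y := z) (not_mem_of_not_dvd (by rwa [hy])) (not_mem_of_not_dvd ?_) (by
        rw [hy, hz]; norm_num)
      rw [hz]
      exact fun h => h3 (dvd_trans (by norm_num) h)
    · obtain ⟨y, hy⟩ := exists_orderOf (T := T) p7 (by rw [hc]; norm_num)
      exact twoT_of_pow (k := 2) (n := 14) p7 hy h7 (by norm_num) (hn7 _ (by rw [Nat.card_zpowers, hy])) (by decide)
  · right
    have h1 : R.index ∣ 504 := by rw [← hc]; exact R.index_dvd_card
    have h2 := hidx R hR
    have h3 : R.index ∈ Nat.divisors 504 := by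
      rw [Nat.mem_divisors]; exact ⟨h1, by norm_num⟩
    unfold Nat.ModEq at hm
    generalize R.index = n at h2 h3 hm
    have h4 : ∀ n ∈ Nat.divisors 504, 9 ≤ n → n % 3 = 1 % 3 → n = 28 := by decide +kernel
    exact h4 n h3 h2 hm

end

theorem rowEight_psl28 {F : Type} [Field F] [Fintype F] (hF : Fintype.card F = 8) :
    RowEight (Matrix.ProjectiveSpecialLinearGroup (Fin 2) F) := by
  have hs : IsSimpleGroup (Matrix.ProjectiveSpecialLinearGroup (Fin 2) F) :=
    Matrix.ProjectiveSpecialLinearGroup.rank_two_simple (by rw [Nat.card_eq_fintype_card]; omega)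
  have hfin : Finite (Matrix.ProjectiveSpecialLinearGroup (Fin 2) F) := H163.PG.finite_psl 2
  have hc : Nat.card (Matrix.ProjectiveSpecialLinearGroup (Fin 2) F) = 504 :=
    SmallSimple.PSLFacts.card_psl_two_eight hF
  have hna : ¬ IsMulCommutative (Matrix.ProjectiveSpecialLinearGroup (Fin 2) F) :=
    SmallSimple.Embed.not_comm_of_card_not_prime (by rw [hc]; norm_num)
  obtain ⟨C, -, -, -, hcyc, hC, -⟩ := Cfsg.Agent.ClassicalGeometry.PSLTorus.exists_psl_torus F
  rw [hF] at hC
  norm_num at hC
  obtain ⟨z, hz⟩ := hcyc.exists_generator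
  have hz9 : orderOf (z : Matrix.ProjectiveSpecialLinearGroup (Fin 2) F) = 9 := by
    rw [Subgroup.orderOf_coe, orderOf_eq_card_of_forall_mem_zpowers hz, hC]
  refine rowEight_of hc hz9 ?_
  rw [H163.PG.card_out_psl_two (p := 2) (f := 3) Nat.prime_two (by norm_num) (by rw [hF]; norm_num) (by omega)
    (H163.PG.center_of_simple hna), hF]
  norm_num

end Cfsg.Agent.H35.DerSmall
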