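import Cfsg.Agent.H35.DerSmall.Base
import Cfsg.Agent.H548.RowAlt
import Cfsg.Agent.SmallSimple.S1000.PSLFacts

/-!
# S3500: the socle `A₅` (helper35)
-/

set_option autoImplicit false
set_option linter.unusedSectionVars false

namespace Cfsg.Agent.H35.DerSmall

open Subgroup Cfsg.Agent.H439.Der

section

variable {T : Type*} [Group T] [Finite T]

/-- **`A₅`**, abstract form -/
theorem rowFive_of [hs : IsSimpleGroup T] (hc : Nat.card T = 60)
    (hout : ∀ s : ℕ, s.Prime → s ∣ Nat.card (Cfsg.Out T) → s = 2) : RowFive T := by
  have p5 : Nat.Prime 5 := by norm_num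
  have p3 : Nat.Prime 3 := Nat.prime_three
  have f5 : Fact (Nat.Prime 5) := ⟨p5⟩
  have f3 : Fact (Nat.Prime 3) := ⟨p3⟩
  have hna : ¬ IsMulCommutative T := SmallSimple.Embed.not_comm_of_card_not_prime (by rw [hc]; norm_num)
  have hidx : ∀ M : Subgroup T, M ≠ ⊤ → 5 ≤ M.index := SmallSimple.Embed.five_le_index hna
  have hn5 : Nat.card (Sylow 5 T) = 6 := by
    have h1 := SmallSimple.Embed.five_le_card_sylow hna (p := 5) (by rw [hc]; norm_num)
    have h2 := card_sylow_modEq_one 5 T
    have h3 : Nat.card (Sylow 5 T) ∣ 12 := by
      obtain ⟨P⟩ : Nonempty (Sylow 5 T) := inferInstance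
      have h4 := P.card_dvd_index
      have h5 : Nat.card (P : Subgroup T) = 5 :=
        SmallSimple.Simple168.card_sylow_of_eq 5 1 12 (by rw [hc]; norm_num) (by norm_num) P
      have h6 := (P : Subgroup T).card_mul_index
      rw [h5, hc] at h6
      rwa [show (P : Subgroup T).index = 12 by omega] at h4
    have h4 := Nat.le_of_dvd (by norm_num) h3
    unfold Nat.ModEq at h2
    generalize Nat.card (Sylow 5 T) = n at *
    interval_cases n <;> omega
  have hn3 : Nat.card (Sylow 3 T) = 10 := by
    have h1 := SmallSimple.Embed.five_le_card_sylow hna (p := 3) (by rw [hc]; norm_num)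
    have h2 := card_sylow_modEq_one 3 T
    have h3 : Nat.card (Sylow 3 T) ∣ 20 := by
      obtain ⟨P⟩ : Nonempty (Sylow 3 T) := inferInstance
      have h4 := P.card_dvd_index
      have h5 : Nat.card (P : Subgroup T) = 3 :=
        SmallSimple.Simple168.card_sylow_of_eq 3 1 20 (by rw [hc]; norm_num) (by norm_num) P
      have h6 := (P : Subgroup T).card_mul_index
      rw [h5, hc] at h6
      rwa [show (P : Subgroup T).index = 20 by omega] at h4
    have h4 := Nat.le_of_dvd (by norm_num) h3
    unfold Nat.ModEq at h2
    generalize Nat.card (Sylow 3 T) = n at *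
    interval_cases n <;> omega
  have hN5 : ∀ P : Subgroup T, Nat.card P = 5 → Nat.card (normalizer (P : Set T)) = 10 := by
    intro P hP
    have := card_normalizer_of p5 (a := 12) (by rw [hc]) (by norm_num) hn5 hP
    omega
  have hN3 : ∀ P : Subgroup T, Nat.card P = 3 → Nat.card (normalizer (P : Set T)) = 6 := by
    intro P hP
    have := card_normalizer_of p3 (a := 20) (by rw [hc]) (by norm_num) hn3 hP
    omega
  refine ⟨hc, fun M hM => ?_, hout, fun R hR hodd => ?_⟩
  · by_cases h5 : 5 ∣ Nat.card M
    · right
      have h1 := M.card_mul_index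
      rw [hc] at h1
      have h2 := hidx M hM.1
      have h3 : Nat.card M ≤ 12 := by
        by_contra h
        push Not at h
        nlinarith
      have h4 : 0 < Nat.card M := Nat.card_pos
      have h6 : Nat.card M = 5 ∨ Nat.card M = 10 := by omega
      rcases h6 with h6 | h6
      · exfalso
        have h7 := hN5 M h6
        have h8 : normalizer (M : Set T) ≠ ⊤ := by
          intro h
          rw [h, card_top, hc] at h7
          omega
        have h9 : M = normalizer (M : Set T) := by
          by_contra hne
          exact h8 (hM.2 _ (lt_of_le_of_ne le_normalizer hne))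
        rw [← h9, h6] at h7
        omega
      · rw [h6] at h1
        omega
    · left
      obtain ⟨y, hy⟩ := exists_orderOf (T := T) p5 (by rw [hc]; norm_num)
      exact twoT_of_pow (k := 2) (n := 10) p5 hy h5 (by norm_num) (hN5 _ (by rw [Nat.card_zpowers, hy])) (by decide)
  · have h1 := R.card_mul_index
    rw [hc] at h1
    have h2 := hidx R hR
    have h3 : R.index ∈ Nat.divisors 60 := by
      rw [Nat.mem_divisors]; exact ⟨⟨_, by rw [mul_comm]; exact h1.symm⟩, by norm_num⟩
    have h4 : R.index = 5 ∨ R.index = 15 := by
      generalize R.index = n at h2 h3 hodd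
      have h5 : ∀ n ∈ Nat.divisors 60, 5 ≤ n → n % 2 = 1 → n = 5 ∨ n = 15 := by decide +kernel
      exact h5 n h3 h2 (Nat.odd_iff.1 hodd)
    rcases h4 with h4 | h4
    · -- `|R| = 12`
      right
      rw [h4] at h1
      have h5 : Nat.card R = 12 := by omega
      obtain ⟨x, hx⟩ := exists_orderOf (T := R) p3 (by rw [h5]; norm_num)
      set P : Subgroup R := zpowers x with hPdef
      have cP : Nat.card P = 3 := by rw [hPdef, Nat.card_zpowers, hx]
      set P' : Subgroup T := P.map R.subtype with hP'
      have hP'R : P' ≤ R := map_subtype_le _
      have cP' : Nat.card P' = 3 := by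
        rw [← cP]
        exact (Nat.card_congr (P.equivMapOfInjective _ R.subtype_injective).toEquiv).symm
      have hN := hN3 P' cP'
      refine outBad_of p3 hP'R cP' (by rw [h5]; norm_num) ?_
      -- `|N_R(P)| = 3`
      have h6 : R.relIndex (normalizer (P' : Set T)) ∣ 6 := by
        rw [← hN]; exact relIndex_dvd_card _ _
      have h7 : Nat.card (R ⊓ normalizer (P' : Set T) : Subgroup T) * R.relIndex (normalizer (P' : Set T)) = 6 := by
        rw [← hN, ← inf_relIndex_right, inf_comm]
        have := relIndex_mul_relIndex (⊥ : Subgroup T) (normalizer (P' : Set T) ⊓ R) (normalizer (P' : Set T)) bot_le inf_le_left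
        rw [relIndex_bot_left, relIndex_bot_left] at this
        exact this
      have h8 : 3 ∣ Nat.card (R ⊓ normalizer (P' : Set T) : Subgroup T) := by
        rw [← cP']
        exact card_dvd_of_le (le_inf hP'R le_normalizer)
      have h9 : Nat.card (R ⊓ normalizer (P' : Set T) : Subgroup T) ≠ 6 := by
        intro h10
        have h11 : IsPGroup 3 P := IsPGroup.of_card (n := 1) (by rw [cP, pow_one])
        have h12 : P.index = 4 := by
          have := P.card_mul_index
          rw [cP, h5] at this
          omega
        have h13 : ¬ 3 ∣ P.index := by rw [h12]; norm_num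
        have h14 := (h11.toSylow h13).card_eq_index_normalizer
        change _ = (normalizer (P : Set R)).index at h14
        have h15 := card_sylow_modEq_one 3 R
        rw [h14] at h15
        have h16 : normalizer (P : Set R) = (normalizer (P' : Set T)).subgroupOf R := by
          ext y
          rw [mem_subgroupOf, mem_normalizer_iff, mem_normalizer_iff]
          constructor
          · intro h t
            constructor
            · rintro ⟨z, hz, rfl⟩
              exact ⟨y * z * y⁻¹, (h z).1 hz, rfl⟩
            · rintro ⟨z, hz, hzt⟩
              have e : t = ((y⁻¹ * z * y : R) : T) := by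
                have : (z : T) = y * t * (y : T)⁻¹ := hzt
                simp only [coe_mul, coe_inv, this]
                group
              refine ⟨y⁻¹ * z * y, ?_, e.symm⟩
              apply (h _).2
              have e2 : y * (y⁻¹ * z * y) * y⁻¹ = z := by group
              rw [e2]; exact hz
          · intro h z
            have h17 := h z
            have e : ∀ w : R, (w : T) ∈ P' ↔ w ∈ P := by
              intro w
              constructor
              · rintro ⟨v, hv, hvw⟩
                rwa [← R.subtype_injective hvw]
              · intro hw; exact ⟨w, hw, rfl⟩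
            change (z : T) ∈ P' ↔ _ at h17
            rw [e z] at h17
            rw [h17]
            exact e (y * z * y⁻¹)
        have h17 : Nat.card (normalizer (P : Set R)) = 6 := by
          rw [h16, ← h10, inf_comm, ← subgroupOf_map_subtype]
          exact Nat.card_congr (((normalizer (P' : Set T)).subgroupOf R).equivMapOfInjective _
            R.subtype_injective).toEquiv
        have h18 := (normalizer (P : Set R)).card_mul_index
        rw [h17, h5] at h18
        rw [show (normalizer (P : Set R)).index = 2 by omega] at h15
        exact absurd h15 (by decide)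
      have h10 : 0 < Nat.card (R ⊓ normalizer (P' : Set T) : Subgroup T) := Nat.card_pos
      have h11 : Nat.card (R ⊓ normalizer (P' : Set T) : Subgroup T) ≤ 6 :=
        Nat.le_of_dvd (by norm_num) ⟨_, h7.symm⟩
      have h12 : Nat.card (R ⊓ normalizer (P' : Set T) : Subgroup T) = 3 := by omega
      rw [h12] at h7
      omega
    · left
      rw [h4] at h1
      have h5 : Nat.card R = 4 := by omega
      exact twoR_of_primes (T := T) p3 p5 (by norm_num) (by rw [hc]; norm_num) (by rw [hc]; norm_num)
        (by rw [h5]; norm_num) (by rw [h5]; norm_num)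

end

theorem rowFive_a5 : RowFive (alternatingGroup (Fin 5)) := by
  have hs : IsSimpleGroup (alternatingGroup (Fin 5)) := alternatingGroup.isSimpleGroup (by simp)
  have hc := SmallSimple.PSLFacts.card_alt_five
  have hna : ¬ IsMulCommutative (alternatingGroup (Fin 5)) :=
    SmallSimple.Embed.not_comm_of_card_not_prime (by rw [hc]; norm_num)
  refine rowFive_of hc fun s hs' hd => ?_
  rw [H548.RowAlt.card_out_alt le_rfl (by norm_num) hs hna] at hd
  exact (Nat.prime_dvd_prime_iff_eq hs' Nat.prime_two).1 hd

end Cfsg.Agent.H35.DerSmall
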