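import Cfsg.Agent.H35.DerSmall.Base
import Cfsg.Agent.H163.PG.Ord
import Cfsg.Agent.H371.OutTwo
import Cfsg.Agent.SmallSimple.S1000.PSLFacts

/-!
# S3500: the socle `PSL₂(7)` (helper35)
-/

set_option autoImplicit false
set_option linter.unusedSectionVars false

namespace Cfsg.Agent.H35.DerSmall

open Subgroup Cfsg.Agent.H439.Der

section

variable {T : Type*} [Group T] [Finite T]

/-- an element of prime power order and a subgroup of small index -/
theorem pow_mem_normalCore {p k : ℕ} (hp : p.Prime) {x : T} (hx : orderOf x = p ^ (k + 1))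
    {M : Subgroup T} (hlt : M.index < p ^ (k + 1)) : x ^ p ^ k ∈ M.normalCore := by
  have h1 : ∀ b : T ⧸ M, x ^ p ^ k • b = b := by
    intro b
    rw [MulAction.pow_smul_eq_iff_minimalPeriod_dvd]
    have h2 : Function.minimalPeriod (x • ·) b ∣ p ^ (k + 1) := by
      rw [← MulAction.pow_smul_eq_iff_minimalPeriod_dvd, ← hx, pow_orderOf_eq_one, one_smul]
    obtain ⟨j, hj, hjk⟩ := (Nat.dvd_prime_pow hp).1 h2
    rw [hjk]
    rcases Nat.lt_or_ge j (k + 1) with h3 | h3
    · exact pow_dvd_pow p (by omega)
    · exfalso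
      have h4 : j = k + 1 := by omega
      subst h4
      have h6 := Nat.card_le_card_of_injective (β := T ⧸ M)
        (fun z => ((MulAction.orbitZPowersEquiv x b).symm z).1)
        (Subtype.val_injective.comp (MulAction.orbitZPowersEquiv x b).symm.injective)
      rw [Nat.card_zmod, hjk] at h6
      exact absurd hlt (not_lt.2 h6)
  rw [Subgroup.normalCore_eq_ker, MonoidHom.mem_ker]
  ext b
  exact h1 b

/-- the automorphisms leaving `R` invariant -/
def St (R : Subgroup T) : Subgroup (MulAut T) where
  carrier := {ψ | ∀ x, x ∈ R ↔ ψ x ∈ R}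
  mul_mem' := by
    intro a b ha hb x
    rw [MulAut.mul_apply, ← ha, ← hb]
  one_mem' := fun x => Iff.rfl
  inv_mem' := by
    intro a ha x
    rw [ha (a⁻¹ x), ← MulAut.mul_apply, mul_inv_cancel, MulAut.one_apply]

theorem mem_St {R : Subgroup T} {ψ : MulAut T} : ψ ∈ St R ↔ ∀ x, x ∈ R ↔ ψ x ∈ R := Iff.rfl

theorem conj_mem_St {R : Subgroup T} {r : T} (hr : r ∈ R) : MulAut.conj r ∈ St R := by
  rw [mem_St]
  intro x
  rw [MulAut.conj_apply]
  constructor
  · intro hx; exact mul_mem (mul_mem hr hx) (inv_mem hr)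
  · intro hx
    have := mul_mem (mul_mem (inv_mem hr) hx) hr
    have e : r⁻¹ * (r * x * r⁻¹) * r = x := by group
    rwa [e] at this

/-- the core of `St R` in the automorphism group of a simple group is trivial -/
theorem core_St [hs : IsSimpleGroup T] {R : Subgroup T} (hb : R ≠ ⊥) (ht : R ≠ ⊤) {c : MulAut T}
    (hc : c ∈ (St R).normalCore) : c = 1 := by
  set K : Subgroup T := (St R).normalCore.comap MulAut.conj with hK
  have hKb : K = ⊥ := by
    rcases Subgroup.Normal.eq_bot_or_eq_top (H := K) inferInstance with h | h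
    · exact h
    · exfalso
      have hR : R.Normal := by
        refine ⟨fun x hx t => ?_⟩
        have h1 : t ∈ K := by rw [h]; exact mem_top t
        have h2 := mem_St.1 ((St R).normalCore_le h1) x
        exact h2.1 hx
      rcases hR.eq_bot_or_eq_top with h1 | h1
      · exact hb h1
      · exact ht h1
  apply MulEquiv.ext
  intro t
  have h1 : c * MulAut.conj t * c⁻¹ = MulAut.conj (c t) := by
    apply MulEquiv.ext
    intro y
    simp only [MulAut.mul_apply, MulAut.conj_apply, map_mul, map_inv]
    rw [← MulAut.mul_apply, mul_inv_cancel, MulAut.one_apply]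
  have h2 : c t * t⁻¹ ∈ K := by
    rw [hK, mem_comap, map_mul, map_inv, ← h1, mul_assoc, mul_assoc]
    refine mul_mem hc ?_
    have h3 := (St R).normalCore_normal.conj_mem _ (inv_mem hc) (MulAut.conj t)
    rwa [mul_assoc] at h3
  rw [hKb, mem_bot, mul_inv_eq_one] at h2
  exact h2

/-- **`PSL₂(7)`**, abstract form -/
theorem rowTwo_of168 [hs : IsSimpleGroup T] (hc : Nat.card T = 168) (hout : Nat.card (Cfsg.Out T) = 2)
    {h : MulAut T} (h8 : orderOf h = 8) : RowTwo T := by
  have p7 : Nat.Prime 7 := by norm_num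
  have p3 : Nat.Prime 3 := Nat.prime_three
  have p2 : Nat.Prime 2 := Nat.prime_two
  have hna : ¬ IsMulCommutative T := SmallSimple.Embed.not_comm_of_card_not_prime (by rw [hc]; norm_num)
  have hZ : Subgroup.center T = ⊥ := H163.PG.center_of_simple hna
  have hinj : Function.Injective (MulAut.conj : T →* MulAut T) := H163.PG.conj_injective hZ
  have haut : Nat.card (MulAut T) = 336 := by
    rw [← H163.PG.card_out_mul hZ, hout, hc]
  have hidx : ∀ M : Subgroup T, M ≠ ⊤ → 7 ≤ M.index := by
    intro M hM
    have h1 := SmallSimple.Embed.two_mul_card_dvd_factorial_index hna M hM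
    have h2 := SmallSimple.Embed.five_le_index hna M hM
    rw [hc] at h1
    by_contra h
    have h3 : M.index = 5 ∨ M.index = 6 := by omega
    rcases h3 with h3 | h3 <;> rw [h3] at h1 <;> exact absurd h1 (by decide)
  have hn7 : ∀ P : Subgroup T, Nat.card P = 7 → Nat.card (normalizer (P : Set T)) = 21 := by
    intro P hP
    have := card_normalizer_of (n := 8) p7 (a := 24) (by rw [hc]) (by norm_num)
      (SmallSimple.Simple168.card_sylow_seven hc) hP
    omega
  -- an element of order `4`
  obtain ⟨z, hz⟩ : ∃ z : T, orderOf z = 4 := by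
    have h1 : h * h ∈ Cfsg.Inn T := Subgroup.mul_self_mem_of_index_two hout h
    obtain ⟨z, hz⟩ := h1
    refine ⟨z, ?_⟩
    have h2 : MulAut.conj z = h * h := hz
    rw [← orderOf_injective _ hinj z, h2, ← pow_two, orderOf_pow, h8]
    norm_num
  refine ⟨fun M hM => ?_, ?_, fun R hR hodd => ?_⟩
  · by_cases h7 : 7 ∣ Nat.card M
    · obtain ⟨b, hb⟩ := h7
      have h1 := M.card_mul_index
      have h2 := hidx M hM.1
      rw [hb, hc] at h1
      have hb0 : 0 < b := by
        rcases Nat.eq_zero_or_pos b with h0 | h0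
        · rw [h0, mul_zero] at hb
          exact absurd hb Nat.card_pos.ne'
        · exact h0
      have hb3 : b ≤ 3 := by
        by_contra h0
        push Not at h0
        nlinarith
      have hb2 : b ≠ 2 := by
        rintro rfl
        obtain ⟨P, hP, hd⟩ := card_dvd_normalizer (M := M) p7 (a := 2) hb (by norm_num) (by
          intro n hn hm
          have := Nat.le_of_dvd (by norm_num) hn
          unfold Nat.ModEq at hm
          interval_cases n <;> omega)
        rw [hn7 P hP, hb] at hd
        omega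
      have hodd : ¬ 2 ∣ Nat.card M := by
        rw [hb]
        omega
      obtain ⟨y, hy⟩ := exists_orderOf (T := T) p2 (by rw [hc]; norm_num)
      refine twoT_of_ne (x := y) (y := z) (not_mem_of_not_dvd (by rwa [hy])) (not_mem_of_not_dvd ?_) (by
        rw [hy, hz]; norm_num)
      rw [hz]
      exact fun h0 => hodd (dvd_trans (by norm_num) h0)
    · obtain ⟨y, hy⟩ := exists_orderOf (T := T) p7 (by rw [hc]; norm_num)
      exact twoT_of_pow (k := 6) (n := 21) p7 hy h7 (by norm_num) (hn7 _ (by rw [Nat.card_zpowers, hy])) (by decide)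
  · intro s hs' hd
    rw [hout] at hd
    exact (Nat.prime_dvd_prime_iff_eq hs' p2).1 hd
  · have h1 := R.card_mul_index
    rw [hc] at h1
    have h2 := hidx R hR
    have h3 : R.index ∈ Nat.divisors 168 := by
      rw [Nat.mem_divisors]; exact ⟨⟨_, by rw [mul_comm]; exact h1.symm⟩, by norm_num⟩
    have h4 : R.index = 7 ∨ R.index = 21 := by
      generalize R.index = n at h2 h3 hodd
      have h5 : ∀ n ∈ Nat.divisors 168, 7 ≤ n → n % 2 = 1 → n = 7 ∨ n = 21 := by decide +kernel
      exact h5 n h3 h2 (Nat.odd_iff.1 hodd)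
    rcases h4 with h4 | h4
    · -- `|R| = 24`: no outer automorphism leaves `R` invariant
      right
      intro φ hφ hφR
      exfalso
      rw [h4] at h1
      have h5 : Nat.card R = 24 := by omega
      have hφS : (φ : MulAut T) ∈ St R := by
        rw [mem_St]
        intro x
        constructor
        · intro hx; rw [← hφR]; exact ⟨x, hx, rfl⟩
        · intro hx
          rw [← hφR] at hx
          obtain ⟨y, hy, hyx⟩ := hx
          rwa [← φ.injective hyx]
      have h6 : R.map MulAut.conj ≤ St R := by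
        rintro _ ⟨r, hr, rfl⟩
        exact conj_mem_St hr
      have h7 : Nat.card (R.map MulAut.conj) = 24 := by
        rw [← h5]
        exact (Nat.card_congr (R.equivMapOfInjective _ hinj).toEquiv).symm
      have h8' : 24 ∣ Nat.card (St R) := by
        rw [← h7]; exact card_dvd_of_le h6
      have h9 : Nat.card (St R) ≠ 24 := by
        intro h0
        have h10 : R.map MulAut.conj = St R := Subgroup.eq_of_le_of_card_ge h6 (by rw [h7, h0])
        rw [← h10] at hφS
        obtain ⟨t, -, ht⟩ := hφS
        exact hφ t ht.symm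
      have h10 := (St R).card_mul_index
      rw [haut] at h10
      have h11 : (St R).index < 2 ^ (2 + 1) := by
        obtain ⟨a, ha⟩ := h8'
        rw [ha] at h10 h9
        have : 2 ≤ a := by
          by_contra hlt
          push Not at hlt
          interval_cases a <;> omega
        by_contra hlt
        push Not at hlt
        have h13 := Nat.mul_le_mul this hlt
        rw [mul_assoc] at h10
        norm_num at h13
        omega
      have h12 := pow_mem_normalCore p2 (x := h) (k := 2) (by rw [h8]; norm_num) h11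
      have h13 := core_St (by rintro rfl; rw [card_bot] at h5; omega) hR h12
      have h14 := orderOf_dvd_of_pow_eq_one h13
      rw [h8] at h14
      omega
    · left
      rw [h4] at h1
      have h5 : Nat.card R = 8 := by omega
      exact twoR_of_primes (T := T) p3 p7 (by norm_num) (by rw [hc]; norm_num) (by rw [hc]; norm_num)
        (by rw [h5]; norm_num) (by rw [h5]; norm_num)

end

/-- the matrix `(0, 1; 1, 1)` -/
theorem exists_orderOf_eight {F : Type*} [Field F] [Fintype F] (hF : Fintype.card F = 7) :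
    ∃ h : MulAut (Matrix.ProjectiveSpecialLinearGroup (Fin 2) F), orderOf h = 8 := by
  have f7 : Fact (Nat.Prime 7) := ⟨by norm_num⟩
  have hchar : CharP F 7 := charP_of_card_eq_prime hF
  have h7 : (7 : F) = 0 := by exact_mod_cast CharP.cast_eq_zero F 7
  have hdet : IsUnit (!![0, 1; 1, 1] : Matrix (Fin 2) (Fin 2) F).det := by
    rw [Matrix.det_fin_two_of]
    norm_num
  let A : GL (Fin 2) F := Matrix.GeneralLinearGroup.mk'' !![0, 1; 1, 1] hdet
  have hA : (A : Matrix (Fin 2) (Fin 2) F) = !![0, 1; 1, 1] := rfl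
  have hA2 : ((A ^ 2 : GL (Fin 2) F) : Matrix (Fin 2) (Fin 2) F) = !![1, 1; 1, 2] := by
    rw [Units.val_pow_eq_pow_val, hA, pow_two, Matrix.mul_fin_two]
    norm_num
  have hA4 : ((A ^ 4 : GL (Fin 2) F) : Matrix (Fin 2) (Fin 2) F) = !![2, 3; 3, 5] := by
    have e : A ^ 4 = A ^ 2 * A ^ 2 := by rw [← pow_add]
    rw [e, Units.val_mul, hA2, Matrix.mul_fin_two]
    norm_num
  have hA8 : ((A ^ 8 : GL (Fin 2) F) : Matrix (Fin 2) (Fin 2) F) = !![13, 0; 0, 13] := by
    have e : A ^ 8 = A ^ 4 * A ^ 4 := by rw [← pow_add]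
    rw [e, Units.val_mul, hA4, Matrix.mul_fin_two]
    have e1 : (2 : F) * 2 + 3 * 3 = 13 := by norm_num
    have e2 : (2 : F) * 3 + 3 * 5 = 0 := by
      have : (2 : F) * 3 + 3 * 5 = 3 * 7 := by norm_num
      rw [this, h7, mul_zero]
    have e3 : (3 : F) * 2 + 5 * 3 = 0 := by
      have : (3 : F) * 2 + 5 * 3 = 3 * 7 := by norm_num
      rw [this, h7, mul_zero]
    have e4 : (3 : F) * 3 + 5 * 5 = 13 := by
      have : (3 : F) * 3 + 5 * 5 = 13 + 3 * 7 := by norm_num
      rw [this, h7, mul_zero, add_zero]
    rw [e1, e2, e3, e4]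
  let ψ : GL (Fin 2) F →* MulAut (Matrix.ProjectiveSpecialLinearGroup (Fin 2) F) :=
    Cfsg.Agent.ClassicalGeometry.AutPSL.Auto.lift.comp Cfsg.Agent.ClassicalGeometry.AutPSL.Auto.cj
  have f2 : Fact (Nat.Prime 2) := ⟨Nat.prime_two⟩
  have h8 : ψ (A ^ 8) = 1 := by
    have h9 : Cfsg.Agent.ClassicalGeometry.AutPSL.Auto.cj (A ^ 8) = 1 := by
      refine Cfsg.Agent.ClassicalGeometry.AutPSL.Main.cj_eq_one_of_scalar (r := 13) ?_
      rw [hA8]
      ext i j
      fin_cases i <;> fin_cases j <;> simp [Matrix.scalar_apply, Matrix.diagonal]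
    change Cfsg.Agent.ClassicalGeometry.AutPSL.Auto.lift (Cfsg.Agent.ClassicalGeometry.AutPSL.Auto.cj (A ^ 8)) = 1
    rw [h9, map_one]
  have h4 : ψ (A ^ 4) ≠ 1 := by
    intro hcen
    obtain ⟨⟨r, hr⟩, -⟩ := H371.OutTwo.eq_one_of_lift (A := A ^ 4) (σ := 1) (by rw [map_one, mul_one]; exact hcen)
    rw [hA4] at hr
    have h2 := congrFun (congrFun hr 0) 1
    have h3 : (3 : F) = 0 := by simpa [Matrix.scalar_apply, Matrix.diagonal] using h2.symm
    have h4 : (1 : F) = 0 := by
      have : (1 : F) = 7 - 2 * 3 := by norm_num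
      rw [this, h7, h3]
      norm_num
    exact one_ne_zero h4
  refine ⟨ψ A, (orderOf_eq_prime_pow (p := 2) (n := 2) ?_ ?_).trans (by norm_num)⟩
  · intro h
    apply h4
    rw [map_pow]
    exact h
  · have : ψ A ^ 8 = 1 := by rw [← map_pow]; exact h8
    exact this

theorem rowTwo_psl27 {F : Type} [Field F] [Fintype F] (hF : Fintype.card F = 7) :
    RowTwo (Matrix.ProjectiveSpecialLinearGroup (Fin 2) F) := by
  have hs : IsSimpleGroup (Matrix.ProjectiveSpecialLinearGroup (Fin 2) F) :=
    Matrix.ProjectiveSpecialLinearGroup.rank_two_simple (by rw [Nat.card_eq_fintype_card]; omega)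
  have hfin : Finite (Matrix.ProjectiveSpecialLinearGroup (Fin 2) F) := H163.PG.finite_psl 2
  have hc : Nat.card (Matrix.ProjectiveSpecialLinearGroup (Fin 2) F) = 168 :=
    SmallSimple.PSLFacts.card_psl_two_seven hF
  have hna : ¬ IsMulCommutative (Matrix.ProjectiveSpecialLinearGroup (Fin 2) F) :=
    SmallSimple.Embed.not_comm_of_card_not_prime (by rw [hc]; norm_num)
  obtain ⟨h, h8⟩ := exists_orderOf_eight hF
  refine rowTwo_of168 hc ?_ h8
  rw [H163.PG.card_out_psl_two (p := 7) (f := 1) (by norm_num) (by norm_num) (by rw [hF]; norm_num) (by omega)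
    (H163.PG.center_of_simple hna), hF]
  norm_num

end Cfsg.Agent.H35.DerSmall
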