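import Cfsg.Agent.H35.DerSmall.Base
import Cfsg.Agent.H548.RowAlt
import Cfsg.Agent.SmallSimple.S1000.PSLFacts

/-!
# S3500: the socle `A₆` (helper35)
-/

set_option autoImplicit false
set_option linter.unusedSectionVars false

namespace Cfsg.Agent.H35.DerSmall

open Subgroup Cfsg.Agent.H439.Der

section

variable {T : Type*} [Group T] [Finite T]

/-- the normaliser of a subgroup of order `5` with centralizer of order `5` -/
theorem card_normalizer_le {P : Subgroup T} {n : ℕ} (hP : Nat.card P = 5)
    (hC : Nat.card (centralizer (P : Set T)) = n) : Nat.card (normalizer (P : Set T)) ≤ n * 4 := by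
  have f5 : Fact (Nat.Prime 5) := ⟨by norm_num⟩
  have hcyc : IsCyclic P := isCyclic_of_prime_card hP
  have h1 := P.normalizerMonoidHom_ker
  have h2 : Nat.card (MulAut P) = 4 := by
    rw [IsCyclic.card_mulAut, hP]
    decide
  have h3 : Nat.card (normalizer (P : Set T)) =
      Nat.card P.normalizerMonoidHom.ker * Nat.card P.normalizerMonoidHom.range := by
    rw [← Subgroup.card_mul_index P.normalizerMonoidHom.ker, Subgroup.index_ker]
  rw [h3]
  refine Nat.mul_le_mul ?_ ?_
  · rw [h1, ← hC]
    exact Nat.card_le_card_of_injective (fun g => ⟨((g : normalizer (P : Set T)) : T), mem_subgroupOf.1 g.2⟩)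
      fun a b hab => Subtype.ext (Subtype.ext (by
        have h4 := congrArg (fun w : centralizer (P : Set T) => (w : T)) hab
        exact h4))
  · rw [← h2]
    exact Nat.card_le_card_of_injective _ Subtype.val_injective

/-- an element of order `4` lies in no subgroup of index `6` of a nonabelian simple group -/
theorem not_mem_of_index_six [hs : IsSimpleGroup T] (hna : ¬ IsMulCommutative T) {z : T} (hz : orderOf z = 4)
    {M : Subgroup T} (hM : M.index = 6) : z ∉ M := by
  classical
  intro hzM
  have : Fintype (T ⧸ M) := Fintype.ofFinite _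
  set f : T →* Equiv.Perm (T ⧸ M) := MulAction.toPermHom T (T ⧸ M) with hf
  have hMt : M ≠ ⊤ := by
    rintro rfl
    rw [index_top] at hM
    omega
  have hinj : Function.Injective f := by
    rw [← MonoidHom.ker_eq_bot_iff]
    rcases Subgroup.Normal.eq_bot_or_eq_top (H := f.ker) inferInstance with h | h
    · exact h
    · exfalso
      apply hMt
      rw [hf, ← Subgroup.normalCore_eq_ker] at h
      exact top_le_iff.1 (h ▸ Subgroup.normalCore_le M)
  have hsign : ∀ t : T, Equiv.Perm.sign (f t) = 1 := by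
    intro t
    have h1 : (Equiv.Perm.sign.comp f).ker = ⊤ := by
      rcases Subgroup.Normal.eq_bot_or_eq_top (H := (Equiv.Perm.sign.comp f).ker) inferInstance with h | h
      · exfalso
        apply hna
        refine ⟨⟨fun a b => (MonoidHom.ker_eq_bot_iff _).1 h ?_⟩⟩
        rw [map_mul, map_mul, mul_comm]
      · exact h
    have h2 : t ∈ (Equiv.Perm.sign.comp f).ker := by rw [h1]; exact mem_top t
    exact h2
  have hcard : Fintype.card (T ⧸ M) = 6 := by rw [← Nat.card_eq_fintype_card]; exact hM
  have ho : orderOf (f z) = 4 := by rw [orderOf_injective f hinj, hz]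
  -- the fixed point
  have hfix : f z (QuotientGroup.mk 1) = QuotientGroup.mk 1 := by
    show z • (QuotientGroup.mk 1 : T ⧸ M) = QuotientGroup.mk 1
    rw [MulAction.Quotient.smul_mk, QuotientGroup.eq]
    simpa using M.inv_mem hzM
  have hsupp : (f z).support.card ≤ 5 := by
    have h1 : (f z).support ⊆ Finset.univ.erase (QuotientGroup.mk 1) := by
      intro a ha
      rw [Finset.mem_erase]
      refine ⟨?_, Finset.mem_univ _⟩
      rintro rfl
      exact (Equiv.Perm.mem_support.1 ha) hfix
    have h2 := Finset.card_le_card h1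
    rw [Finset.card_erase_of_mem (Finset.mem_univ _), Finset.card_univ, hcard] at h2
    exact h2
  have hsum := (f z).sum_cycleType
  have hlcm := (f z).lcm_cycleType
  rw [ho] at hlcm
  -- there is a cycle of length `4`
  have h4 : 4 ∈ (f z).cycleType := by
    by_contra h4
    have h1 : ∀ n ∈ (f z).cycleType, n ∣ 2 := by
      intro n hn
      have h2 : n ∣ 4 := by rw [← hlcm]; exact Multiset.dvd_lcm hn
      have h3 := Nat.le_of_dvd (by norm_num) h2
      have h5 : n ≠ 4 := fun h => h4 (h ▸ hn)
      interval_cases n <;> omega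
    have h2 : (f z).cycleType.lcm ∣ 2 := Multiset.lcm_dvd.2 h1
    rw [hlcm] at h2
    exact absurd h2 (by norm_num)
  obtain ⟨s, hs4⟩ := Multiset.exists_cons_of_mem h4
  rw [hs4, Multiset.sum_cons] at hsum
  have hs0 : s = 0 := by
    by_contra hne
    obtain ⟨n, hn⟩ := Multiset.exists_mem_of_ne_zero hne
    have h1 : 2 ≤ n := Equiv.Perm.two_le_of_mem_cycleType (σ := f z) (by rw [hs4]; exact Multiset.mem_cons_of_mem hn)
    have h2 := Multiset.single_le_sum (fun _ _ => Nat.zero_le _) n hn
    omega
  have h5 := hsign z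
  rw [Equiv.Perm.sign_of_cycleType, hs4, hs0] at h5
  exact absurd h5 (by decide)

/-- **`A₆`**, abstract form -/
theorem rowTwo_of360 [hs : IsSimpleGroup T] (hc : Nat.card T = 360)
    (hout : ∀ s : ℕ, s.Prime → s ∣ Nat.card (Cfsg.Out T) → s = 2) {c x y z : T} (hco : orderOf c = 5)
    (hcc : Nat.card (centralizer ({c} : Set T)) = 5) (hx : orderOf x = 3) (hy : orderOf y = 3)
    (hxy : ∀ g : T, g * x * g⁻¹ ∉ zpowers y) (hz : orderOf z = 4) : RowTwo T := by
  have p5 : Nat.Prime 5 := by norm_num
  have p3 : Nat.Prime 3 := Nat.prime_three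
  have f5 : Fact (Nat.Prime 5) := ⟨p5⟩
  have f3 : Fact (Nat.Prime 3) := ⟨p3⟩
  have hna : ¬ IsMulCommutative T := SmallSimple.Embed.not_comm_of_card_not_prime (by rw [hc]; norm_num)
  have hidx : ∀ M : Subgroup T, M ≠ ⊤ → 6 ≤ M.index := by
    intro M hM
    have h1 := SmallSimple.Embed.two_mul_card_dvd_factorial_index hna M hM
    have h2 := SmallSimple.Embed.five_le_index hna M hM
    rw [hc] at h1
    by_contra h
    have h3 : M.index = 5 := by omega
    rw [h3] at h1
    exact absurd h1 (by decide)
  have hn5 : Nat.card (Sylow 5 T) = 36 := by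
    have h2 := card_sylow_modEq_one 5 T
    have h3 : Nat.card (Sylow 5 T) ∣ 72 := by
      obtain ⟨P⟩ : Nonempty (Sylow 5 T) := inferInstance
      have h4 := P.card_dvd_index
      have h5 : Nat.card (P : Subgroup T) = 5 :=
        SmallSimple.Simple168.card_sylow_of_eq 5 1 72 (by rw [hc]; norm_num) (by norm_num) P
      have h6 := (P : Subgroup T).card_mul_index
      rw [h5, hc] at h6
      rwa [show (P : Subgroup T).index = 72 by omega] at h4
    have h4 : Nat.card (zpowers c) = 5 := by rw [Nat.card_zpowers, hco]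
    have h5 := card_normalizer_of p5 (a := 72) (by rw [hc]) (by norm_num) rfl h4
    have h6 := card_normalizer_le (n := 5) h4 (by rw [SmallSimple.Simple168.centralizer_zpowers_eq, hcc])
    rw [hc] at h5
    have h7 : Nat.card (Sylow 5 T) ∈ Nat.divisors 72 := by
      rw [Nat.mem_divisors]; exact ⟨h3, by norm_num⟩
    have h8 : 18 ≤ Nat.card (Sylow 5 T) := by
      by_contra h
      push Not at h
      nlinarith
    have h9 : ∀ n ∈ Nat.divisors 72, 18 ≤ n → n % 5 = 1 % 5 → n = 36 := by decide +kernel
    exact h9 _ h7 h8 h2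
  have hN5 : ∀ P : Subgroup T, Nat.card P = 5 → Nat.card (normalizer (P : Set T)) = 10 := by
    intro P hP
    have := card_normalizer_of p5 (a := 72) (by rw [hc]) (by norm_num) hn5 hP
    omega
  have hno : ∀ (M : Subgroup T) (a : ℕ), Nat.card M = 5 * a → a ∈ ({4, 8, 9} : Finset ℕ) → False := by
    intro M a hM ha
    obtain ⟨P, hP, hd⟩ := card_dvd_normalizer (M := M) p5 (a := a) hM (by
      fin_cases ha <;> norm_num) (by
      intro n hn hm
      have hle : n ≤ 9 := by
        refine (Nat.le_of_dvd ?_ hn).trans ?_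
        · fin_cases ha <;> norm_num
        · fin_cases ha <;> norm_num
      unfold Nat.ModEq at hm
      have h0 : n = 1 ∨ n = 6 := by omega
      rcases h0 with h0 | h0
      · exact h0
      · exfalso
        rw [h0] at hn
        fin_cases ha <;> omega)
    rw [hN5 P hP, hM] at hd
    have := Nat.le_of_dvd (by norm_num) hd
    fin_cases ha <;> omega
  -- one of the two classes of subgroups of order `3` is missing
  have hmiss : ∀ M : Subgroup T, ¬ 9 ∣ Nat.card M →
      ∃ w : T, orderOf w = 3 ∧ ∀ g : T, g * w * g⁻¹ ∉ M := by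
    intro M hM
    by_contra hcon
    push Not at hcon
    obtain ⟨g, hg⟩ := hcon x hx
    obtain ⟨h, hh⟩ := hcon y hy
    have key : ∀ u v : T, orderOf v = 3 → Nat.card (zpowers (u * v * u⁻¹)) = 3 := by
      intro u v hv
      rw [Nat.card_zpowers, ← hv]
      exact orderOf_injective (MulAut.conj u).toMonoidHom (MulAut.conj u).injective v
    obtain ⟨r, hr, hr2⟩ := exists_conj_of_card (R := M) (P := zpowers (h * y * h⁻¹)) (Q := zpowers (g * x * g⁻¹)) p3
      (zpowers_le.2 hh) (zpowers_le.2 hg) (key h y hy) (key g x hx) (by norm_num; exact hM)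
    have h1 : r * (g * x * g⁻¹) * r⁻¹ ∈ zpowers (h * y * h⁻¹) := by
      rw [← hr2]
      exact ⟨g * x * g⁻¹, mem_zpowers _, rfl⟩
    obtain ⟨k, hk⟩ := mem_zpowers_iff.1 h1
    apply hxy (h⁻¹ * r * g)
    rw [mem_zpowers_iff]
    refine ⟨k, ?_⟩
    have h2 : y ^ k = h⁻¹ * (h * y * h⁻¹) ^ k * h := by rw [conj_zpow]; group
    rw [h2, hk]
    group
  refine ⟨fun M hM => ?_, hout, fun R hR hodd => ?_⟩
  · by_cases h5 : 5 ∣ Nat.card M
    · have h1 := M.card_mul_index
      rw [hc] at h1
      have h2 := hidx M hM.1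
      obtain ⟨a, ha⟩ := h5
      have ha0 : 0 < a := by
        rcases Nat.eq_zero_or_pos a with h | h
        · rw [h, mul_zero] at ha
          exact absurd ha Nat.card_pos.ne'
        · exact h
      have ha12 : a ≤ 12 := by
        by_contra h
        push Not at h
        nlinarith
      have had : a ∣ 72 := by
        refine ⟨M.index, ?_⟩
        rw [ha] at h1
        nlinarith
      have h4 : a ≠ 4 ∧ a ≠ 8 ∧ a ≠ 9 := by
        refine ⟨?_, ?_, ?_⟩ <;> rintro rfl <;> exact hno M _ ha (by decide)
      have h9 : ¬ 9 ∣ Nat.card M := by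
        rw [ha]
        intro h
        have h' : 9 ∣ a := (Nat.Coprime.dvd_of_dvd_mul_left (by norm_num) h)
        obtain ⟨b, hb⟩ := h'
        omega
      obtain ⟨w, hw, hwM⟩ := hmiss M h9
      refine twoT_of_ne (x := w) (y := z) hwM ?_ (by rw [hw, hz]; norm_num)
      intro g hg
      have hgo : orderOf (g * z * g⁻¹) = 4 := by
        rw [← hz]
        exact orderOf_injective (MulAut.conj g).toMonoidHom (MulAut.conj g).injective z
      have h4M : 4 ∣ Nat.card M := by
        have : orderOf (⟨g * z * g⁻¹, hg⟩ : M) = 4 := by rw [← Subgroup.orderOf_coe]; exact hgo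
        rw [← this]
        exact orderOf_dvd_natCard _
      have h4a : 4 ∣ a := by
        rw [ha] at h4M
        exact Nat.Coprime.dvd_of_dvd_mul_left (by norm_num) h4M
      have h12 : a = 12 := by
        obtain ⟨b, hb⟩ := h4a
        omega
      rw [h12] at ha
      rw [ha] at h1
      exact not_mem_of_index_six hna hgo (by omega) hg
    · obtain ⟨v, hv⟩ := exists_orderOf (T := T) p5 (by rw [hc]; norm_num)
      exact twoT_of_pow (k := 2) (n := 10) p5 hv h5 (by norm_num) (hN5 _ (by rw [Nat.card_zpowers, hv])) (by decide)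
  · left
    have h1 := R.card_mul_index
    rw [hc] at h1
    have h2 := hidx R hR
    have h3 : R.index ∈ Nat.divisors 360 := by
      rw [Nat.mem_divisors]; exact ⟨⟨_, by rw [mul_comm]; exact h1.symm⟩, by norm_num⟩
    have h4 : R.index = 9 ∨ R.index = 15 ∨ R.index = 45 := by
      generalize R.index = n at h2 h3 hodd
      have h5 : ∀ n ∈ Nat.divisors 360, 6 ≤ n → n % 2 = 1 → n = 9 ∨ n = 15 ∨ n = 45 := by decide +kernel
      exact h5 n h3 h2 (Nat.odd_iff.1 hodd)
    rcases h4 with h4 | h4 | h4
    · rw [h4] at h1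
      exact (hno R 8 (by omega) (by decide)).elim
    · rw [h4] at h1
      have h5 : Nat.card R = 24 := by omega
      obtain ⟨w, hw, hwR⟩ := hmiss R (by rw [h5]; norm_num)
      exact twoR_of_ne (x := c) (y := w) (not_mem_of_not_dvd (by rw [hco, h5]; norm_num)) hwR
        (by rw [hco, hw]; norm_num)
    · rw [h4] at h1
      have h5 : Nat.card R = 8 := by omega
      exact twoR_of_primes (T := T) p3 p5 (by norm_num) (by rw [hc]; norm_num) (by rw [hc]; norm_num)
        (by rw [h5]; norm_num) (by rw [h5]; norm_num)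

end

theorem rowTwo_a6 : RowTwo (alternatingGroup (Fin 6)) := by
  have hs : IsSimpleGroup (alternatingGroup (Fin 6)) := alternatingGroup.isSimpleGroup (by simp)
  have hc := SmallSimple.PSLFacts.card_alt_six
  have p2 := Nat.prime_two
  obtain ⟨c, hc1, hc2⟩ := H548.RowAlt.exists_cycle (n := 6) (m := 5) (by norm_num) (by norm_num) (by decide)
  obtain ⟨x, -, hx2⟩ := H548.RowAlt.exists_cycle (n := 6) (m := 3) (by norm_num) (by norm_num) (by decide)
  have key : ∀ m : Multiset ℕ, m.sum ≤ 6 → (∀ a ∈ m, 2 ≤ a) → Even (m.sum + m.card) →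
      ∃ y : alternatingGroup (Fin 6), (y : Equiv.Perm (Fin 6)).cycleType = m := by
    intro m h1 h2 h3
    obtain ⟨g, hg⟩ := (Equiv.Perm.exists_with_cycleType_iff (α := Fin 6) (m := m)).2
      ⟨by rw [Fintype.card_fin]; exact h1, h2⟩
    refine ⟨⟨g, Equiv.Perm.mem_alternatingGroup.2 ?_⟩, hg⟩
    rw [Equiv.Perm.sign_of_cycleType, hg]
    exact h3.neg_one_pow
  obtain ⟨y, hy⟩ := key {3, 3} (by decide) (by decide) (by decide)
  obtain ⟨z, hz⟩ := key {4, 2} (by decide) (by decide) (by decide)
  have ho : ∀ t : alternatingGroup (Fin 6), orderOf t = (t : Equiv.Perm (Fin 6)).cycleType.lcm := by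
    intro t
    rw [Equiv.Perm.lcm_cycleType, Subgroup.orderOf_coe]
  have hco : orderOf c = 5 := by rw [ho, hc2]; decide
  refine rowTwo_of360 hc (fun s hs' hd => ?_) (c := c) (x := x) (y := y) (z := z) hco ?_ (by rw [ho, hx2]; decide)
    (by rw [ho, hy]; decide) ?_ (by rw [ho, hz]; decide)
  · rw [H548.RowAlt.card_out_six] at hd
    exact (Nat.prime_dvd_prime_iff_eq hs' p2).1 (hs'.dvd_of_dvd_pow (n := 2) (by norm_num; exact hd))
  · have h1 := H548.RowAlt.centralizer_le c
    rw [hc1] at h1
    norm_num at h1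
    have h2 : 5 ∣ Nat.card (centralizer ({c} : Set (alternatingGroup (Fin 6)))) := by
      have h3 : c ∈ centralizer ({c} : Set (alternatingGroup (Fin 6))) := mem_centralizer_singleton_iff.2 rfl
      have h4 : orderOf (⟨c, h3⟩ : centralizer ({c} : Set (alternatingGroup (Fin 6)))) = 5 := by
        rw [← Subgroup.orderOf_coe]; exact hco
      rw [← h4]
      exact orderOf_dvd_natCard _
    exact le_antisymm h1 (Nat.le_of_dvd Nat.card_pos h2)
  · intro g hg
    obtain ⟨k, hk⟩ := mem_zpowers_iff.1 hg
    have h1 : ((g * x * g⁻¹ : alternatingGroup (Fin 6)) : Equiv.Perm (Fin 6)).cycleType = {3} := by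
      rw [← hx2]
      simp only [coe_mul, coe_inv]
      exact Equiv.Perm.cycleType_conj
    have h3 : y ^ 3 = 1 := by
      have : orderOf y = 3 := by rw [ho, hy]; decide
      rw [← this]; exact pow_orderOf_eq_one y
    have h2 : y ^ k = 1 ∨ y ^ k = y ∨ y ^ k = y⁻¹ := by
      have h4 : k % 3 = 0 ∨ k % 3 = 1 ∨ k % 3 = 2 := by omega
      have h5 : y ^ k = y ^ (k % 3) := by
        conv_lhs => rw [← Int.emod_add_mul_ediv k 3, zpow_add, zpow_mul]
        have h6 : y ^ (3 : ℤ) = 1 := by
          rw [show (3 : ℤ) = ((3 : ℕ) : ℤ) by norm_num, zpow_natCast, h3]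
        rw [h6, one_zpow, mul_one]
      rcases h4 with h4 | h4 | h4
      · left; rw [h5, h4, zpow_zero]
      · right; left; rw [h5, h4, zpow_one]
      · right; right
        rw [h5, h4, eq_inv_iff_mul_eq_one, ← zpow_add_one]
        rw [show (2 : ℤ) + 1 = ((3 : ℕ) : ℤ) by norm_num, zpow_natCast, h3]
    rw [← hk] at h1
    rcases h2 with h2 | h2 | h2
    · rw [h2] at h1
      simp at h1
    · rw [h2, hy] at h1
      exact absurd h1 (by decide)
    · rw [h2] at h1
      simp only [coe_inv, Equiv.Perm.cycleType_inv, hy] at h1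
      exact absurd h1 (by decide)

end Cfsg.Agent.H35.DerSmall
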